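import Mathlib
import Cfsg.Agent.F4PrimeGraph.Data

/-!
Checks on the Weyl group of type F4: for each element, the determinants of cyclotomic polynomials
in it, and roots whose orbit sums vanish.
-/

set_option autoImplicit false

namespace CfsgLib.F4PrimeGraph

/-- The coordinates of a root. -/
def rc (r : ℕ) : V4 := vtab.getD r (0, 0, 0, 0)

/-- The image of a root under a fundamental reflection. -/
def rfl4 (i r : ℕ) : ℕ := (rtab.getD i []).getD r 0

/-- A quadruple of root indices as one number. -/
def code (a b c d : ℕ) : ℕ := ((a * 48 + b) * 48 + c) * 48 + d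

/-- The linear map with given images of the fundamental roots. -/
def act (w : ℕ) : V4 → V4
  | (x, y, z, t) =>
    let (a0, a1, a2, a3) := rc (w / 110592)
    let (b0, b1, b2, b3) := rc (w / 2304 % 48)
    let (c0, c1, c2, c3) := rc (w / 48 % 48)
    let (d0, d1, d2, d3) := rc (w % 48)
    (x * a0 + y * b0 + z * c0 + t * d0, x * a1 + y * b1 + z * c1 + t * d1,
      x * a2 + y * b2 + z * c2 + t * d2, x * a3 + y * b3 + z * c3 + t * d3)

/-- The determinant of four columns. -/
def det4 : V4 → V4 → V4 → V4 → ℤ
  | (a0, a1, a2, a3), (b0, b1, b2, b3), (c0, c1, c2, c3), (d0, d1, d2, d3) =>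
    (a0 * b1 - a1 * b0) * (c2 * d3 - c3 * d2) - (a0 * b2 - a2 * b0) * (c1 * d3 - c3 * d1) +
      (a0 * b3 - a3 * b0) * (c1 * d2 - c2 * d1) + (a1 * b2 - a2 * b1) * (c0 * d3 - c3 * d0) -
      (a1 * b3 - a3 * b1) * (c0 * d2 - c2 * d0) + (a2 * b3 - a3 * b2) * (c0 * d1 - c1 * d0)

/-- Nonzero, with no prime factors other than two and three. -/
def good (d : ℤ) : Bool := d.natAbs != 0 && (2 ^ 48 * 3 ^ 32) % d.natAbs == 0

/-- The basis vectors. -/
def basis : List V4 := [(1, 0, 0, 0), (0, 1, 0, 0), (0, 0, 1, 0), (0, 0, 0, 1)]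

/-- The determinant of a polynomial in the map, given by its action on vectors. -/
def detOf (f : V4 → V4) : ℤ :=
  det4 (f (1, 0, 0, 0)) (f (0, 1, 0, 0)) (f (0, 0, 1, 0)) (f (0, 0, 0, 1))

/-- Third cyclotomic polynomial in the map. -/
def phi3 (w : ℕ) (x : V4) : V4 := act w (act w x) + act w x + x

/-- Fourth cyclotomic polynomial in the map. -/
def phi4 (w : ℕ) (x : V4) : V4 := act w (act w x) + x

/-- Sixth cyclotomic polynomial in the map. -/
def phi6 (w : ℕ) (x : V4) : V4 := act w (act w x) - act w x + x

/-- Eighth cyclotomic polynomial in the map. -/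
def phi8 (w : ℕ) (x : V4) : V4 := act w (act w (act w (act w x))) + x

/-- Twelfth cyclotomic polynomial in the map. -/
def phi12 (w : ℕ) (x : V4) : V4 := act w (act w (act w (act w x))) - act w (act w x) + x

/-- Two of the determinants for orders three, four, six are good. -/
def okPair (w : ℕ) : Bool :=
  let g3 := good (detOf (phi3 w))
  let g4 := good (detOf (phi4 w))
  let g6 := good (detOf (phi6 w))
  (g3 || g4) && (g3 || g6) && (g4 || g6)

/-- A vanishing polynomial forces every root to have independent translates. -/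
def okTop (f : ℕ → V4 → V4) (w : ℕ) : Bool :=
  good (detOf (f w)) ||
    ((basis.all fun x => f w x == (0, 0, 0, 0)) &&
      (List.range 48).all fun r =>
        let x := rc r
        good (det4 x (act w x) (act w (act w x)) (act w (act w (act w x)))))

/-- The sum of the first iterates. -/
def ksum (w : ℕ) : ℕ → V4 → V4
  | 0, _ => (0, 0, 0, 0)
  | k + 1, x => x + ksum w k (act w x)

/-- Some root has vanishing orbit sum, unless the map is trivial. -/
def okOrbit (w : ℕ) : Bool :=
  w == code 33 27 25 24 ||
    (List.range 48).any fun r => [2, 3, 4, 6, 8, 12].any fun k => ksum w k (rc r) == (0, 0, 0, 0)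

/-- Membership in the table. -/
def memTab (w : ℕ) : Bool := (wtab.getD (w / 110592) []).contains w

/-- Left multiplication by a fundamental reflection. -/
def step (i w : ℕ) : ℕ :=
  code (rfl4 i (w / 110592)) (rfl4 i (w / 2304 % 48)) (rfl4 i (w / 48 % 48)) (rfl4 i (w % 48))

/-- The table is closed. -/
def okClosed (w : ℕ) : Bool := (List.range 4).all fun i => memTab (step i w)

end CfsgLib.F4PrimeGraph
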